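import Mathlib.Algebra.Lie.Basis.Base
import Mathlib.Algebra.Lie.Semisimple.Basic
import Mathlib.Algebra.Lie.CartanCriterion
import Mathlib.FieldTheory.IsAlgClosed.Basic
import Mathlib.LinearAlgebra.QuadraticForm.Basic

/-!
Borel stable subspaces of small dimension of the adjoint representation near the highest root.
-/

set_option autoImplicit false
set_option backward.isDefEq.respectTransparency false

universe u v w

namespace Groth.Agent.L13.AdjVar

open LieAlgebra LieModule Function Set LieAlgebra.IsKilling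

variable {ι : Type u} {K : Type v} {L : Type w} [Fintype ι] [Field K] [CharZero K]
  [LieRing L] [LieAlgebra K L] [FiniteDimensional K L]
  {H : LieSubalgebra K L} [H.IsCartanSubalgebra] (b : LieAlgebra.Basis ι H)

/-- A root space as a submodule, indexed by a functional. -/
noncomputable def sp (χ : Module.Dual K H) : Submodule K L := (rootSpace H (χ : H → K)).toSubmodule

lemma sp_eq_bot_iff (χ : Module.Dual K H) : sp (H := H) χ = ⊥ ↔ rootSpace H (χ : H → K) = ⊥ :=
  LieSubmodule.toSubmodule_eq_bot _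

lemma lie_mem_sp {χ₁ χ₂ : Module.Dual K H} {x m : L} (hx : x ∈ sp χ₁) (hm : m ∈ sp χ₂) :
    ⁅x, m⁆ ∈ sp (χ₁ + χ₂) := by
  exact lie_mem_genWeightSpace_of_mem_genWeightSpace (M := L) hx hm

lemma A_ii (i : ι) : b.A i i = 2 := by
  have : IsAddTorsionFree L := .of_isTorsionFree K L
  exact b.A_diag_eq_two i

lemma e_mem (i : ι) : b.e i ∈ sp (b.baseSupp i) :=
  (mem_genWeightSpace _ _ _).mpr fun ⟨z, hz⟩ ↦ ⟨1, by simp⟩

lemma f_mem (i : ι) : b.f i ∈ sp (-b.baseSupp i) :=
  (mem_genWeightSpace _ _ _).mpr fun ⟨z, hz⟩ ↦ ⟨1, by simp [← eq_neg_iff_add_eq_zero]⟩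

section Killing

variable [IsKilling K L] [IsTriangularizable K H L]

lemma lie_h (i : ι) {χ : Module.Dual K H} {x : L} (hx : x ∈ sp χ) :
    ⁅b.h i, x⁆ = χ (b.h' i) • x :=
  lie_eq_smul_of_mem_rootSpace hx (b.h' i)


lemma mem_of_reflect {χ : Module.Dual K H} (hχ : sp χ ≠ ⊥) (i : ι) {m k : ℕ} (hm : χ (b.h' i) = -(m : K))
    (hk : k ≤ m) : sp (χ + k • b.baseSupp i) ≠ ⊥ := by
  let α : Weight K H L := (b.baseSupp' i).1
  have hα : α.IsNonZero := LieSubalgebra.isNonZero_coe_root (b.baseSupp' i)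
  let β : Weight K H L := ⟨χ, fun h => hχ ((sp_eq_bot_iff χ).mpr h)⟩
  have hco : coroot α = b.h' i := b.coroot_eq_h' i
  have h1 : χ (b.h' i) = ((chainBotCoeff (⇑α) β - chainTopCoeff (⇑α) β : ℤ) : K) := by
    rw [← hco]; exact apply_coroot_eq_cast α β
  rw [hm, ← Int.cast_natCast, ← Int.cast_neg, Int.cast_inj] at h1
  have h2 := (rootSpace_zsmul_add_ne_bot_iff α β hα (k : ℤ)).mpr ⟨by omega, by omega⟩
  refine fun h => h2 ?_
  rw [← (sp_eq_bot_iff _).mp h]
  congr 1
  ext z
  show (k : ℤ) • b.baseSupp i z + χ z = (χ + k • b.baseSupp i) z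
  simp [add_comm]

lemma A_symm_zero {i l : ι} (h : b.A i l = 0) : b.A l i = 0 := by
  have key : ∀ i l : ι, (rootSystem H).pairing (b.baseSupp' i) (b.baseSupp' l) = (b.A i l : K) := by
    intro i l
    rw [rootSystem_pairing_apply, show coroot (b.baseSupp' l).1 = b.h' l from b.coroot_eq_h' l]
    exact b.baseSupp_apply_h' i l
  have h1 : (rootSystem H).pairing (b.baseSupp' i) (b.baseSupp' l) = 0 := by
    rw [key, h]; simp
  have h2 := (RootPairing.pairing_eq_zero_iff (P := rootSystem H)).mp h1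
  rw [key] at h2
  exact_mod_cast h2

variable [LieAlgebra.IsSimple K L]

/-- Weights reachable downwards from `μ`. -/
noncomputable def low (μ : Module.Dual K H) (n : ι → ℕ) : Module.Dual K H :=
  μ - ∑ i, n i • b.baseSupp i

lemma low_zero (μ : Module.Dual K H) : low b μ 0 = μ := by simp [low]

lemma low_add (μ : Module.Dual K H) (n n' : ι → ℕ) :
    low b μ (n + n') = low b (low b μ n) n' := by
  simp [low, add_smul, Finset.sum_add_distrib, sub_sub]

lemma low_single [DecidableEq ι] (μ : Module.Dual K H) (i : ι) :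
    low b μ (Pi.single i 1) = μ - b.baseSupp i := by
  simp [low, Pi.single_apply]

lemma low_injective (μ : Module.Dual K H) : Injective (low b μ) := by
  intro n n' h
  have h1 : ∑ i, n i • b.baseSupp i = ∑ i, n' i • b.baseSupp i := by
    simpa [low] using h
  funext i
  exact Fintype.linearIndependent_iffₛ.mp (b.linearIndependent_baseSupp.restrict_scalars' ℕ) n n' h1 i

/-- Everything lies below a vector killed by all `e i`. -/
lemma exists_low {μ : Module.Dual K H} {x : L} (hx : x ∈ sp μ) (hx0 : x ≠ 0)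
    (he : ∀ i, ⁅b.e i, x⁆ = 0) (χ : H → K) (hχ : rootSpace H χ ≠ ⊥) :
    ∃ n, χ = (low b μ n : H → K) := by
  classical
  let P : Submodule K L := ⨆ n, sp (low b μ n)
  let R : ℕ → Set L := fun k => Nat.rec ({x} : Set L) (fun _ s => {y | ∃ i, ∃ z ∈ s, ⁅b.f i, z⁆ = y}) k
  have hR : ∀ k, ∀ y ∈ R k, ∃ n, y ∈ sp (low b μ n) := by
    intro k
    induction k with
    | zero => rintro y (rfl : y = x); exact ⟨0, by rwa [low_zero]⟩
    | succ k ih =>
      rintro y ⟨i, z, hz, rfl⟩
      obtain ⟨n, hn⟩ := ih z hz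
      refine ⟨n + Pi.single i 1, ?_⟩
      rw [low_add, low_single, sub_eq_add_neg, add_comm]
      exact lie_mem_sp (f_mem b i) hn
  let V : Submodule K L := Submodule.span K (⋃ k, R k)
  have hf : ∀ i, ∀ y ∈ V, ⁅b.f i, y⁆ ∈ V := by
    intro i y hy
    induction hy using Submodule.span_induction with
    | mem u hu =>
      obtain ⟨k, hk⟩ := Set.mem_iUnion.mp hu
      exact Submodule.subset_span (Set.mem_iUnion.mpr ⟨k + 1, i, u, hk, rfl⟩)
    | zero => simp
    | add _ _ _ _ h1 h2 => rw [lie_add]; exact add_mem h1 h2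
    | smul t _ _ h1 => rw [lie_smul]; exact V.smul_mem t h1
  have hh : ∀ i k, ∀ y ∈ R k, ⁅b.h i, y⁆ ∈ V := by
    intro i k y hy
    obtain ⟨n, hn⟩ := hR k y hy
    rw [lie_h b i hn]
    exact V.smul_mem _ (Submodule.subset_span (Set.mem_iUnion.mpr ⟨k, hy⟩))
  have he' : ∀ i, ∀ y ∈ V, ⁅b.e i, y⁆ ∈ V := by
    have h1 : ∀ k i, ∀ y ∈ R k, ⁅b.e i, y⁆ ∈ V := by
      intro k
      induction k with
      | zero => rintro i y (rfl : y = x); rw [he i]; exact V.zero_mem
      | succ k ih =>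
        rintro i y ⟨l, z, hz, rfl⟩
        rw [leibniz_lie]
        refine add_mem ?_ (hf l _ (ih i z hz))
        rcases eq_or_ne i l with rfl | hne
        · rw [(b.sl2 i).lie_e_f]; exact hh i k z hz
        · rw [b.lie_e_f_ne i l hne, zero_lie]; exact V.zero_mem
    intro i y hy
    induction hy using Submodule.span_induction with
    | mem u hu => obtain ⟨k, hk⟩ := Set.mem_iUnion.mp hu; exact h1 k i u hk
    | zero => simp
    | add _ _ _ _ h1 h2 => rw [lie_add]; exact add_mem h1 h2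
    | smul t _ _ h1 => rw [lie_smul]; exact V.smul_mem t h1
  have hall : ∀ (z : L), ∀ y ∈ V, ⁅z, y⁆ ∈ V := by
    intro z
    have hz : z ∈ LieSubalgebra.lieSpan K L (range b.e ∪ range b.f) := by simp [b.span_ef]
    induction hz using LieSubalgebra.lieSpan_induction with
    | mem u hu =>
      rcases hu with ⟨i, rfl⟩ | ⟨i, rfl⟩
      · exact he' i
      · exact hf i
    | zero => intro y _; simp
    | add u v _ _ h1 h2 => intro y hy; rw [add_lie]; exact add_mem (h1 y hy) (h2 y hy)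
    | smul t u _ h1 => intro y hy; rw [smul_lie]; exact V.smul_mem t (h1 y hy)
    | lie u v _ _ h1 h2 =>
      intro y hy
      rw [lie_lie]; exact sub_mem (h1 _ (h2 y hy)) (h2 _ (h1 y hy))
  let I : LieIdeal K L := { V with lie_mem := fun {z y} hy => hall z y hy }
  have hI : I = ⊤ := (LieAlgebra.IsSimple.eq_bot_or_eq_top I).resolve_left fun h => hx0 (by
    have : x ∈ I := Submodule.subset_span (Set.mem_iUnion.mpr ⟨0, rfl⟩)
    simpa [h] using this)
  have htop : (⨆ χ' ∈ Set.range fun n => ((low b μ n : Module.Dual K H) : H → K), rootSpace H χ') = ⊤ := by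
    rw [eq_top_iff]
    intro y _
    have hy : y ∈ I := by simp [hI]
    induction hy using Submodule.span_induction with
    | mem u hu =>
      obtain ⟨k, hk⟩ := Set.mem_iUnion.mp hu
      obtain ⟨n, hn⟩ := hR k u hk
      exact LieSubmodule.mem_iSup_of_mem _ (LieSubmodule.mem_iSup_of_mem ⟨n, rfl⟩ hn)
    | zero => exact zero_mem _
    | add _ _ _ _ h1 h2 => exact add_mem (h1 trivial) (h2 trivial)
    | smul t _ _ h1 => exact SMulMemClass.smul_mem t (h1 trivial)
  obtain ⟨n, hn⟩ := (iSupIndep_genWeightSpace K H L).mem_of_biSup_eq_top htop hχ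
  exact ⟨n, hn.symm⟩

variable (ρ : Module.Dual K H)

/-- `ρ` is the highest root. -/
def IsHighest : Prop := sp ρ ≠ ⊥ ∧ ∀ i, sp (ρ + b.baseSupp i) = ⊥

variable {ρ} {b}

lemma IsHighest.exists_eq (hρ : IsHighest b ρ) (χ : H → K) (hχ : rootSpace H χ ≠ ⊥) :
    ∃ n, χ = (low b ρ n : H → K) := by
  obtain ⟨v, hv, hv0⟩ := Submodule.exists_mem_ne_zero_of_ne_bot hρ.1
  refine exists_low b hv hv0 (fun i => ?_) χ hχ
  have h := lie_mem_sp (e_mem b i) hv
  rwa [add_comm, hρ.2 i, Submodule.mem_bot] at h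

lemma IsHighest.eq_bot_of_ne (hρ : IsHighest b ρ) (χ : Module.Dual K H)
    (h : ∀ n, χ ≠ low b ρ n) : sp χ = ⊥ := by
  by_contra hne
  obtain ⟨n, hn⟩ := hρ.exists_eq χ fun e => hne ((sp_eq_bot_iff χ).mpr e)
  exact h n (DFunLike.coe_injective hn)

lemma IsHighest.top_unique (hρ : IsHighest b ρ) {μ : Module.Dual K H} {x : L} (hx : x ∈ sp μ)
    (hx0 : x ≠ 0) (he : ∀ i, ⁅b.e i, x⁆ = 0) : μ = ρ := by
  obtain ⟨n, hn⟩ := exists_low b hx hx0 he ρ fun e => hρ.1 ((sp_eq_bot_iff ρ).mpr e)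
  obtain ⟨n', hn'⟩ := hρ.exists_eq μ fun e => hx0 (by
    simpa [e, sp] using hx)
  have e1 := DFunLike.coe_injective hn
  have e2 := DFunLike.coe_injective hn'
  have : low b ρ (n' + n) = low b ρ 0 := by rw [low_add, ← e2, ← e1, low_zero]
  have := low_injective b ρ this
  have h0 : n' = 0 := funext fun i => by simpa using (Nat.add_eq_zero_iff.mp (congrFun this i)).1
  rw [e2, h0, low_zero]

end Killing

section Main

variable [IsAlgClosed K] [LieAlgebra.IsSimple K L] {b} {ρ : Module.Dual K H}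

variable (b ρ) in
/-- The hypotheses of the rows. -/
structure Hyp (j : ι) : Prop where
  high : IsHighest b ρ
  orth : ∀ i, i ≠ j → ρ (b.h' i) = 0
  one : ρ (b.h' j) = 1

variable {j : ι}

lemma Hyp.ne_add (h : Hyp b ρ j) {χ : Module.Dual K H} {k : ℕ} (i : ι) (hk : 0 < k)
    (e : χ = ρ + k • b.baseSupp i) : sp χ = ⊥ := by
  classical
  refine h.high.eq_bot_of_ne χ fun n hn => ?_
  have h1 : low b ρ (n + Pi.single i k) = low b ρ 0 := by
    rw [low_add, ← hn, low_zero, e]
    simp [low, Pi.single_apply]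
  have := congrFun (low_injective b ρ h1) i
  simp at this
  omega

lemma Hyp.single_eq [DecidableEq ι] (h : Hyp b ρ j) {i : ι}
    (hi : sp (low b ρ (Pi.single i 1)) ≠ ⊥) : i = j := by
  by_contra hij
  rw [low_single] at hi
  refine mem_of_reflect b hi i (m := 2) (k := 2) ?_ le_rfl (h.ne_add i Nat.one_pos ?_)
  · simp [h.orth i hij, A_ii]
  · rw [two_nsmul, one_nsmul]; abel

lemma Hyp.low_one_ne [DecidableEq ι] (h : Hyp b ρ j) : sp (low b ρ (Pi.single j 1)) ≠ ⊥ := by
  rw [low_single]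
  obtain ⟨v, hv, hv0⟩ := Submodule.exists_mem_ne_zero_of_ne_bot h.high.1
  intro hbot
  have hf : ⁅b.f j, v⁆ = 0 := by
    have := lie_mem_sp (f_mem b j) hv
    rwa [neg_add_eq_sub, hbot, Submodule.mem_bot] at this
  have he : ⁅b.e j, v⁆ = 0 := by
    have := lie_mem_sp (e_mem b j) hv
    rwa [add_comm, h.high.2 j, Submodule.mem_bot] at this
  have hh : ⁅b.h j, v⁆ = v := by rw [lie_h b j hv, h.one, one_smul]
  rw [← (b.sl2 j).lie_e_f, lie_lie, hf, he, lie_zero, lie_zero, sub_zero] at hh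
  exact hv0 hh.symm

lemma low_ne_zero [DecidableEq ι] (h : Hyp b ρ j) : low b ρ (Pi.single j 1) ≠ 0 := by
  intro e
  have := congrArg (fun χ : Module.Dual K H => χ (b.h' j)) e
  simp [low_single, h.one, A_ii] at this
  norm_num at this

lemma Hyp.rho_ne_zero (h : Hyp b ρ j) : ρ ≠ 0 := fun e => by simpa [e] using h.one

lemma finrank_sp {χ : Module.Dual K H} (hχ : χ ≠ 0) (hne : sp χ ≠ ⊥) :
    Module.finrank K (sp χ) = 1 := by
  let α : Weight K H L := ⟨χ, fun e => hne ((sp_eq_bot_iff χ).mpr e)⟩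
  exact finrank_rootSpace_eq_one α fun e => hχ (DFunLike.coe_injective e)

/-- The third level. -/
lemma Hyp.second (h : Hyp b ρ j) [DecidableEq ι] {i : ι}
    (hi : sp (low b ρ (Pi.single j 1 + Pi.single i 1)) ≠ ⊥) :
    i ≠ j ∧ b.A i j ≠ 0 ∧ low b ρ (Pi.single j 1 + Pi.single i 1) ≠ 0 := by
  rw [low_add, low_single, low_single] at hi ⊢
  have hij : i ≠ j := by
    rintro rfl
    refine mem_of_reflect b hi i (m := 3) (k := 3) ?_ le_rfl (h.ne_add i Nat.one_pos ?_)
    · simp [h.one, A_ii]; norm_num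
    · rw [one_nsmul, show (3 : ℕ) • b.baseSupp i = b.baseSupp i + b.baseSupp i + b.baseSupp i by
        rw [succ_nsmul, two_nsmul]]
      abel
  refine ⟨hij, fun hA => ?_, fun e => ?_⟩
  · have hA' := A_symm_zero b hA
    refine mem_of_reflect b hi i (m := 2) (k := 2) ?_ le_rfl
      (h.high.eq_bot_of_ne _ fun n hn => ?_)
    · simp [h.orth i hij, hA', A_ii]
    · have h1 : low b ρ (n + Pi.single i 1) = low b ρ (Pi.single j 1) := by
        rw [low_add, ← hn, low_single, low_single, two_nsmul]; abel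
      have := congrFun (low_injective b ρ h1) i
      simp [hij] at this
  · have hρ : ρ = b.baseSupp j + b.baseSupp i := by
      linear_combination (norm := abel) e
    have hAji : b.A j i = -2 := by
      have := congrArg (fun χ : Module.Dual K H => χ (b.h' i)) hρ
      simp [h.orth i hij, A_ii] at this
      have h2 : ((b.A j i : ℤ) : K) = ((-2 : ℤ) : K) := by push_cast; linear_combination -this
      exact_mod_cast h2
    have hj : sp (b.baseSupp j) ≠ ⊥ := fun hb => (b.sl2 j).e_ne_zero (by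
      simpa [hb] using e_mem b j)
    refine mem_of_reflect b hj i (m := 2) (k := 2) (by simp [hAji]) le_rfl (h.ne_add i Nat.one_pos ?_)
    rw [hρ, two_nsmul, one_nsmul]; abel

variable (W : Submodule K L)

/-- Stability under the Borel subalgebra. -/
def Stable (b : LieAlgebra.Basis ι H) : Prop :=
  ∀ x ∈ H.toSubmodule ⊔ (b.borelUpper : Submodule K L), ∀ w ∈ W, ⁅x, w⁆ ∈ W

variable {W}

lemma e_mem_borel (i : ι) : b.e i ∈ H.toSubmodule ⊔ (b.borelUpper : Submodule K L) :=
  Submodule.mem_sup_right (LieSubalgebra.subset_lieSpan (mem_range_self i))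

lemma Stable.decomp (h : Hyp b ρ j) (hW : Stable W b) : W ≤ ⨆ n, W ⊓ sp (low b ρ n) := by
  let N : LieSubmodule K H L :=
    { W with lie_mem := fun {x y} hy => hW x (Submodule.mem_sup_left x.2) y hy }
  intro w hw
  have key : ⨆ χ : H → K, (genWeightSpace N χ).map N.incl = N := by
    rw [← LieSubmodule.map_iSup, iSup_genWeightSpace_eq_top K H N, LieModuleHom.map_top,
      LieSubmodule.range_incl]
  have hw' : w ∈ (⨆ χ : H → K, (genWeightSpace N χ).map N.incl).toSubmodule := by rw [key]; exact hw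
  rw [LieSubmodule.iSup_toSubmodule] at hw'
  refine SetLike.le_def.mp (iSup_le fun χ => ?_) hw'
  intro y hy
  rw [map_genWeightSpace_eq_of_injective N.injective_incl, LieSubmodule.range_incl] at hy
  obtain ⟨hy1, hy2⟩ := hy
  by_cases hb : rootSpace H χ = ⊥
  · have h0 : y ∈ rootSpace H χ := hy1
    rw [hb, LieSubmodule.mem_bot] at h0
    rw [h0]; exact zero_mem _
  obtain ⟨n, rfl⟩ := h.high.exists_eq χ hb
  exact Submodule.mem_iSup_of_mem n ⟨hy2, hy1⟩

lemma Stable.lie_e (hW : Stable W b) (i : ι) {χ : Module.Dual K H} {x : L} (hxW : x ∈ W)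
    (hx : x ∈ sp χ) : ⁅b.e i, x⁆ ∈ W ⊓ sp (b.baseSupp i + χ) :=
  ⟨hW _ (e_mem_borel i) x hxW, lie_mem_sp (e_mem b i) hx⟩

/-- One step upwards. -/
lemma Stable.exists_pred [DecidableEq ι] (h : Hyp b ρ j) (hW : Stable W b) {n : ι → ℕ} (hn : n ≠ 0)
    {x : L} (hxW : x ∈ W) (hx : x ∈ sp (low b ρ n)) (hx0 : x ≠ 0) :
    ∃ (i : ι) (n' : ι → ℕ), n = n' + Pi.single i 1 ∧ W ⊓ sp (low b ρ n') ≠ ⊥ ∧
      ⁅b.e i, x⁆ ∈ W ⊓ sp (low b ρ n') ∧ ⁅b.e i, x⁆ ≠ 0 := by
  obtain ⟨i, hi⟩ : ∃ i, ⁅b.e i, x⁆ ≠ 0 := by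
    by_contra hall
    push Not at hall
    exact hn (low_injective b ρ ((h.high.top_unique hx hx0 hall).trans (low_zero b ρ).symm))
  have hmem := hW.lie_e i hxW hx
  obtain ⟨n', hn'⟩ : ∃ n', b.baseSupp i + low b ρ n = low b ρ n' := by
    obtain ⟨n', hn'⟩ := h.high.exists_eq _ (fun e => hi (by
      simpa [sp, e] using hmem.2) : rootSpace H ((b.baseSupp i + low b ρ n : Module.Dual K H) : H → K) ≠ ⊥)
    exact ⟨n', DFunLike.coe_injective hn'⟩
  rw [hn'] at hmem
  refine ⟨i, n', low_injective b ρ ?_, fun e => hi (by simpa [e] using hmem), hmem, hi⟩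
  rw [low_add, ← hn', low_single]; abel

lemma Stable.exists_mem [DecidableEq ι] (h : Hyp b ρ j) (hW : Stable W b) (B : Submodule K L)
    (hWB : ¬ W ≤ B) :
    ∃ n, ∃ x ∈ W, x ∈ sp (low b ρ n) ∧ x ∉ B ∧
      ∀ m : ι → ℕ, (∑ i, m i) < ∑ i, n i → W ⊓ sp (low b ρ m) ≤ B := by
  classical
  have hex : ∃ d n, (∑ i, n i) = d ∧ ¬ W ⊓ sp (low b ρ n) ≤ B := by
    by_contra hne
    push Not at hne
    exact hWB ((hW.decomp h).trans (iSup_le fun n => hne _ n rfl))
  obtain ⟨n, hn, hnB⟩ := Nat.find_spec hex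
  obtain ⟨x, hx, hxB⟩ := SetLike.not_le_iff_exists.mp hnB
  refine ⟨n, x, hx.1, hx.2, hxB, fun m hm => ?_⟩
  by_contra hmB
  exact Nat.find_min hex (hn ▸ hm) ⟨m, rfl, hmB⟩

lemma disjoint_sp {n : ι → ℕ} {t : Set (ι → ℕ)} (h : n ∉ t) :
    Disjoint (sp (low b ρ n)) (⨆ m ∈ t, sp (low b ρ m)) := by
  have h1 := (iSupIndep_genWeightSpace K H L).disjoint_biSup
    (x := ((low b ρ n : Module.Dual K H) : H → K))
    (y := (fun m => ((low b ρ m : Module.Dual K H) : H → K)) '' t)
    (fun ⟨m, hm, e⟩ => h (low_injective b ρ (DFunLike.coe_injective e) ▸ hm))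
  rw [iSup_image, ← LieSubmodule.disjoint_toSubmodule] at h1
  simpa [sp, LieSubmodule.iSup_toSubmodule] using h1

lemma finrank_two [DecidableEq ι] (h : Hyp b ρ j) :
    Module.finrank K ↥(sp ρ ⊔ sp (low b ρ (Pi.single j 1))) = 2 := by
  have hd : Disjoint (sp ρ) (sp (low b ρ (Pi.single j 1))) := by
    have := disjoint_sp (b := b) (ρ := ρ) (n := 0) (t := {Pi.single j 1}) (by
      intro e; simpa using congrFun (Set.mem_singleton_iff.mp e) j)
    simpa [low_zero] using this
  have := Submodule.finrank_sup_add_finrank_inf_eq (sp ρ) (sp (low b ρ (Pi.single j 1)))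
  rw [hd.eq_bot, finrank_bot, finrank_sp h.rho_ne_zero h.high.1,
    finrank_sp (low_ne_zero h) h.low_one_ne] at this
  omega

lemma finrank_three [DecidableEq ι] (h : Hyp b ρ j) {i : ι}
    (hi : sp (low b ρ (Pi.single j 1 + Pi.single i 1)) ≠ ⊥) :
    Module.finrank K ↥(sp ρ ⊔ sp (low b ρ (Pi.single j 1)) ⊔
      sp (low b ρ (Pi.single j 1 + Pi.single i 1))) = 3 := by
  have hd : Disjoint (sp (low b ρ (Pi.single j 1 + Pi.single i 1)))
      (sp ρ ⊔ sp (low b ρ (Pi.single j 1))) := by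
    have := disjoint_sp (b := b) (ρ := ρ) (n := Pi.single j 1 + Pi.single i 1)
      (t := {0, Pi.single j 1}) (by
        rintro (e | e)
        · simpa using congrFun e j
        · simpa using congrFun (Set.mem_singleton_iff.mp e) i)
    rwa [iSup_insert, iSup_singleton, low_zero] at this
  have := Submodule.finrank_sup_add_finrank_inf_eq (sp ρ ⊔ sp (low b ρ (Pi.single j 1)))
    (sp (low b ρ (Pi.single j 1 + Pi.single i 1)))
  rw [hd.symm.eq_bot, finrank_bot, finrank_two h, finrank_sp (h.second hi).2.2 hi] at this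
  omega

lemma sp_le_of_inf_ne_bot {χ : Module.Dual K H} (hχ : χ ≠ 0) (hne : W ⊓ sp χ ≠ ⊥) : sp χ ≤ W := by
  have hpos : sp (H := H) χ ≠ ⊥ := fun e => hne (by simp [e])
  have h1 := finrank_sp hχ hpos
  have h2 : Module.finrank K ↥(W ⊓ sp χ) ≠ 0 := fun e => hne (Submodule.finrank_eq_zero.mp e)
  have h3 := Submodule.finrank_mono (inf_le_right : W ⊓ sp χ ≤ sp χ)
  exact (Submodule.eq_of_le_of_finrank_eq inf_le_right (by omega : Module.finrank K ↥(W ⊓ sp χ) =
    Module.finrank K (sp χ))).symm.le.trans inf_le_left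

/-- A stable subspace with enough dimension contains the first two levels. -/
lemma Stable.two_le [DecidableEq ι] (h : Hyp b ρ j) (hW : Stable W b)
    (hdim : 2 ≤ Module.finrank K W) : sp ρ ⊔ sp (low b ρ (Pi.single j 1)) ≤ W := by
  have hρW : sp ρ ≤ W := by
    obtain ⟨n, x, hxW, hx, hx0, hmin⟩ := hW.exists_mem h ⊥ (by
      intro hle; rw [le_bot_iff] at hle; rw [hle, finrank_bot] at hdim; omega)
    rcases eq_or_ne n 0 with rfl | hn
    · rw [low_zero] at hx
      exact sp_le_of_inf_ne_bot h.rho_ne_zero fun e => hx0 (e ▸ ⟨hxW, hx⟩)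
    · obtain ⟨i, n', rfl, hne, -⟩ := hW.exists_pred h hn hxW hx (by simpa using hx0)
      exact absurd (le_bot_iff.mp (hmin n' (by simp [Finset.sum_add_distrib]))) hne
  refine sup_le hρW (sp_le_of_inf_ne_bot (low_ne_zero h) ?_)
  obtain ⟨n, x, hxW, hx, hxρ, hmin⟩ := hW.exists_mem h (sp ρ) (fun hle => by
    have := Submodule.finrank_mono hle
    rw [finrank_sp h.rho_ne_zero h.high.1] at this
    omega)
  rcases eq_or_ne n 0 with rfl | hn
  · rw [low_zero] at hx; exact absurd hx hxρ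
  obtain ⟨i, n', rfl, -, hmem, he0⟩ := hW.exists_pred h hn hxW hx (fun e => hxρ (e ▸ zero_mem _))
  have hle := hmin n' (by simp [Finset.sum_add_distrib]) hmem
  have hn' : n' = 0 := by
    by_contra hne
    have hd := disjoint_sp (b := b) (ρ := ρ) (t := {(0 : ι → ℕ)}) (n := n') (by simpa using hne)
    simp [low_zero] at hd
    exact he0 (Submodule.disjoint_def.mp hd _ hmem.2 hle)
  subst hn'
  rw [zero_add] at hx
  have hi := h.single_eq (i := i) (fun e => hxρ (by
    rw [e, Submodule.mem_bot] at hx; rw [hx]; exact zero_mem _))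
  subst hi
  intro e
  have : x ∈ (⊥ : Submodule K L) := e ▸ ⟨hxW, hx⟩
  exact hxρ (by rw [(Submodule.mem_bot K).mp this]; exact zero_mem _)

theorem two_dim [DecidableEq ι] (h : Hyp b ρ j) (W : Submodule K L) :
    (Module.finrank K W = 2 ∧ Stable W b) ↔ W = sp ρ ⊔ sp (ρ - b.baseSupp j) := by
  rw [← low_single b ρ j]
  constructor
  · rintro ⟨hd, hW⟩
    exact (Submodule.eq_of_le_of_finrank_eq (hW.two_le h hd.ge) ((finrank_two h).trans hd.symm)).symm
  · rintro rfl
    refine ⟨finrank_two h, fun x hx w hw => ?_⟩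
    rw [Submodule.mem_sup] at hx
    obtain ⟨z, hz, u, hu, rfl⟩ := hx
    rw [add_lie]
    refine add_mem ?_ ?_
    · obtain ⟨a, ha, c, hc, rfl⟩ := Submodule.mem_sup.mp hw
      rw [lie_add]
      exact Submodule.add_mem_sup ((rootSpace H _).lie_mem (x := (⟨z, hz⟩ : H)) ha)
        ((rootSpace H _).lie_mem (x := (⟨z, hz⟩ : H)) hc)
    · change u ∈ LieSubalgebra.lieSpan K L (range b.e) at hu
      clear hz z
      induction hu using LieSubalgebra.lieSpan_induction generalizing w with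
      | mem y hy =>
        obtain ⟨i, rfl⟩ := hy
        obtain ⟨a, ha, c, hc, rfl⟩ := Submodule.mem_sup.mp hw
        have ha' : ⁅b.e i, a⁆ = 0 := by
          have := lie_mem_sp (e_mem b i) ha
          rwa [add_comm, h.high.2 i, Submodule.mem_bot] at this
        rw [lie_add, ha', zero_add]
        have hc' := lie_mem_sp (e_mem b i) hc
        rcases eq_or_ne i j with rfl | hij
        · refine Submodule.mem_sup_left ?_
          convert hc' using 2
          rw [low_single]; abel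
        · rw [h.high.eq_bot_of_ne _ fun n hn => ?_, Submodule.mem_bot] at hc'
          · rw [hc']; exact zero_mem _
          · have h1 : low b ρ (n + Pi.single i 1) = low b ρ (Pi.single j 1) := by
              rw [low_add, ← hn, low_single, low_single]; abel
            simpa [hij] using congrFun (low_injective b ρ h1) i
      | zero => simp
      | add y z _ _ h1 h2 => rw [add_lie]; exact add_mem (h1 w hw) (h2 w hw)
      | smul t y _ h1 => rw [smul_lie]; exact Submodule.smul_mem _ t (h1 w hw)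
      | lie y z _ _ h1 h2 => rw [lie_lie]; exact sub_mem (h1 _ (h2 w hw)) (h2 _ (h1 w hw))

/-- The structure of a three dimensional stable subspace. -/
lemma Stable.three [DecidableEq ι] (h : Hyp b ρ j) (hW : Stable W b)
    (hd : Module.finrank K W = 3) :
    ∃ i, sp (low b ρ (Pi.single j 1 + Pi.single i 1)) ≠ ⊥ ∧
      W = sp ρ ⊔ sp (low b ρ (Pi.single j 1)) ⊔ sp (low b ρ (Pi.single j 1 + Pi.single i 1)) := by
  have h2 := hW.two_le h (by omega)
  obtain ⟨n, x, hxW, hx, hxB, hmin⟩ := hW.exists_mem h (sp ρ ⊔ sp (low b ρ (Pi.single j 1))) (fun hle => by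
    have := Submodule.finrank_mono hle; rw [finrank_two h] at this; omega)
  rcases eq_or_ne n 0 with rfl | hn
  · rw [low_zero] at hx; exact absurd (Submodule.mem_sup_left hx) hxB
  obtain ⟨i, n', rfl, -, hmem, he0⟩ := hW.exists_pred h hn hxW hx (fun e => hxB (e ▸ zero_mem _))
  have hle := hmin n' (by simp [Finset.sum_add_distrib]) hmem
  have hn' : n' = 0 ∨ n' = Pi.single j 1 := by
    by_contra hne
    push Not at hne
    have hd := disjoint_sp (b := b) (ρ := ρ) (t := {0, Pi.single j 1}) (n := n') (by simpa using hne)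
    rw [iSup_insert, iSup_singleton, low_zero] at hd
    exact he0 (Submodule.disjoint_def.mp hd _ hmem.2 hle)
  have hne : sp (low b ρ (n' + Pi.single i 1)) ≠ ⊥ := fun e => hxB (by
    rw [e, Submodule.mem_bot] at hx; rw [hx]; exact zero_mem _)
  rcases hn' with rfl | rfl
  · rw [zero_add] at hne hx
    rw [h.single_eq hne] at hx
    exact absurd (Submodule.mem_sup_right hx) hxB
  refine ⟨i, hne, (Submodule.eq_of_le_of_finrank_eq (sup_le h2 ?_) ?_).symm⟩
  · exact sp_le_of_inf_ne_bot (h.second hne).2.2 fun e => hxB (by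
      have : x ∈ (⊥ : Submodule K L) := e ▸ ⟨hxW, hx⟩
      rw [(Submodule.mem_bot K).mp this]; exact zero_mem _)
  · exact (finrank_three h hne).trans hd.symm

theorem three_dim [DecidableEq ι] (h : Hyp b ρ j) (hW : Stable W b)
    (hd : Module.finrank K W = 3) :
    sp ρ ⊔ sp (ρ - b.baseSupp j) ≤ W ∧ ∃ i, i ≠ j ∧ b.A i j ≠ 0 ∧
      W = sp ρ ⊔ sp (ρ - b.baseSupp j) ⊔ sp (ρ - b.baseSupp j - b.baseSupp i) := by
  obtain ⟨i, hne, hWeq⟩ := hW.three h hd
  refine ⟨?_, i, (h.second hne).1, (h.second hne).2.1, ?_⟩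
  · rw [← low_single b ρ j]; exact hW.two_le h (by omega)
  · rw [hWeq, low_add, low_single, low_single]

end Main

end Groth.Agent.L13.AdjVar
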