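import Groth.Agent.L13.AdjVar.BorelStable

/-!
Semi-invariant quadratic forms on a stable plane are double lines.
-/

set_option autoImplicit false
set_option backward.isDefEq.respectTransparency false

universe u v w

namespace Groth.Agent.L13.AdjVar

open LieAlgebra LieModule Function Set

variable {ι : Type u} {K : Type v} {L : Type w} [Fintype ι] [Field K] [CharZero K]
  [LieRing L] [LieAlgebra K L] [FiniteDimensional K L] [IsAlgClosed K] [LieAlgebra.IsSimple K L]
  {H : LieSubalgebra K L} [H.IsCartanSubalgebra] {b : LieAlgebra.Basis ι H} {ρ : Module.Dual K H}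
  {j : ι}

/-- The elementary computation with two commuting raising operators on a three dimensional space. -/
lemma double_line {M : Type*} [AddCommGroup M] [Module K M] (q : QuadraticForm K M) (v₁ v₂ v₃ : M)
    {a c : K} (ha : a ≠ 0) (hc : c ≠ 0) (D E : M →ₗ[K] M)
    (hD₁ : D v₁ = 0) (hD₂ : D v₂ = a • v₁) (hD₃ : D v₃ = 0)
    (hE₁ : E v₁ = 0) (hE₂ : E v₂ = 0) (hE₃ : E v₃ = c • v₂)
    (hD : ∃ d : K, ∀ w, QuadraticMap.polar q (D w) w = d * q w)
    (hE : ∃ d : K, ∀ w, QuadraticMap.polar q (E w) w = d * q w) :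
    q v₁ = 0 ∧ q v₂ = 0 ∧ QuadraticMap.polar q v₁ v₂ = 0 ∧ QuadraticMap.polar q v₁ v₃ = 0 ∧
      QuadraticMap.polar q v₂ v₃ = 0 := by
  obtain ⟨d, hd⟩ := hD
  obtain ⟨e, he⟩ := hE
  have pair : ∀ (T : M →ₗ[K] M) (t : K), (∀ w, QuadraticMap.polar q (T w) w = t * q w) → ∀ x y,
      QuadraticMap.polar q (T x) y + QuadraticMap.polar q (T y) x = t * QuadraticMap.polar q x y := by
    intro T t ht x y
    have h := ht (x + y)
    rw [map_add, QuadraticMap.polar_add_left, QuadraticMap.polar_add_right,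
      QuadraticMap.polar_add_right, ht x, ht y, QuadraticMap.map_add q] at h
    linear_combination h
  have e1 := he v₁
  have e2 := he v₂
  have e3 := he v₃
  have e12 := pair E e he v₁ v₂
  have e13 := pair E e he v₁ v₃
  have e23 := pair E e he v₂ v₃
  have d1 := hd v₁
  have d3 := hd v₃
  have d2 := hd v₂
  have d12 := pair D d hd v₁ v₂
  have d13 := pair D d hd v₁ v₃
  have d23 := pair D d hd v₂ v₃
  simp only [hE₁, hE₂, hE₃, hD₁, hD₂, hD₃, QuadraticMap.polar_zero_left,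
    QuadraticMap.polar_smul_left, smul_eq_mul, zero_add, add_zero,
    QuadraticMap.polar_self, two_smul] at e1 e2 e3 e12 e13 e23 d1 d2 d3 d12 d13 d23
  rw [QuadraticMap.polar_comm q v₂ v₁] at e13
  have he0 : e = 0 → q v₂ = 0 ∧ QuadraticMap.polar q v₁ v₂ = 0 ∧ QuadraticMap.polar q v₂ v₃ = 0 := by
    rintro rfl
    refine ⟨?_, ?_, ?_⟩
    · exact (mul_eq_zero.mp (show (2 * c) * q v₂ = 0 by linear_combination e23)).resolve_left
        (mul_ne_zero two_ne_zero hc)
    · exact (mul_eq_zero.mp (show c * QuadraticMap.polar q v₁ v₂ = 0 by linear_combination e13)).resolve_left hc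
    · exact (mul_eq_zero.mp (show c * QuadraticMap.polar q v₂ v₃ = 0 by linear_combination e3)).resolve_left hc
  have h3 : q v₂ = 0 ∧ QuadraticMap.polar q v₁ v₂ = 0 ∧ QuadraticMap.polar q v₂ v₃ = 0 := by
    rcases eq_or_ne e 0 with h | h
    · exact he0 h
    have q2 : q v₂ = 0 := (mul_eq_zero.mp e2.symm).resolve_left h
    have q12 : QuadraticMap.polar q v₁ v₂ = 0 := (mul_eq_zero.mp e12.symm).resolve_left h
    refine ⟨q2, q12, (mul_eq_zero.mp (show e * QuadraticMap.polar q v₂ v₃ = 0 by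
      rw [← e23, q2]; ring)).resolve_left h⟩
  obtain ⟨q2, q12, q23⟩ := h3
  have q1 : q v₁ = 0 := by
    have : (2 * a) * q v₁ = 0 := by linear_combination d12 + d * q12
    exact (mul_eq_zero.mp this).resolve_left (mul_ne_zero two_ne_zero ha)
  have q13 : QuadraticMap.polar q v₁ v₃ = 0 := by
    have : a * QuadraticMap.polar q v₁ v₃ = 0 := by linear_combination d23 + d * q23
    exact (mul_eq_zero.mp this).resolve_left ha
  exact ⟨q1, q2, q12, q13, q23⟩

theorem conic [DecidableEq ι] (h : Hyp b ρ j) (W : Submodule K L) (hd : Module.finrank K W = 3)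
    (hst : Stable W b) (q : QuadraticForm K W)
    (hq : ∀ (x : L) (hx : x ∈ H.toSubmodule ⊔ (b.borelUpper : Submodule K L)), ∃ c : K, ∀ w : W,
      QuadraticMap.polar q ⟨⁅x, (w : L)⁆, hst x hx w w.property⟩ w = c * q w) :
    ∃ (ℓ : Module.Dual K W) (c : K), ∀ w : W, q w = c * ℓ w ^ 2 := by
  obtain ⟨i, hne, hWeq⟩ := hst.three h hd
  obtain ⟨hij, -, hν⟩ := h.second hne
  set μ := low b ρ (Pi.single j 1) with hμdef
  set ν := low b ρ (Pi.single j 1 + Pi.single i 1) with hνdef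
  obtain ⟨x₁, hx₁, hx₁0⟩ := Submodule.exists_mem_ne_zero_of_ne_bot h.high.1
  obtain ⟨x₂, hx₂, hx₂0⟩ := Submodule.exists_mem_ne_zero_of_ne_bot h.low_one_ne
  obtain ⟨x₃, hx₃, hx₃0⟩ := Submodule.exists_mem_ne_zero_of_ne_bot hne
  have hW₁ : sp ρ ≤ W := hWeq ▸ le_sup_of_le_left le_sup_left
  have hW₂ : sp μ ≤ W := hWeq ▸ le_sup_of_le_left le_sup_right
  have hW₃ : sp ν ≤ W := hWeq ▸ le_sup_right
  have gen : ∀ {χ : Module.Dual K H} {x : L}, χ ≠ 0 → x ∈ sp χ → x ≠ 0 → ∀ y ∈ sp χ, ∃ t : K, t • x = y := by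
    intro χ x hχ hx hx0 y hy
    have hne : sp (H := H) χ ≠ ⊥ := fun e => hx0 (by simpa [e] using hx)
    obtain ⟨t, ht⟩ := exists_smul_eq_of_finrank_eq_one (finrank_sp hχ hne)
      (x := ⟨x, hx⟩) (fun e => hx0 (congrArg Subtype.val e)) ⟨y, hy⟩
    exact ⟨t, congrArg Subtype.val ht⟩
  have raise : ∀ (n : ι → ℕ) (l : ι) {x : L}, x ∈ sp (low b ρ n) → ∀ m, n = m + Pi.single l 1 →
      ⁅b.e l, x⁆ ∈ sp (low b ρ m) := by
    intro n l x hx m e
    have := lie_mem_sp (e_mem b l) hx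
    rwa [show b.baseSupp l + low b ρ n = low b ρ m by rw [e, low_add, low_single]; abel] at this
  have kill : ∀ (n : ι → ℕ) (l : ι) {x : L}, x ∈ sp (low b ρ n) → n l = 0 → ⁅b.e l, x⁆ = 0 := by
    intro n l x hx e
    have := lie_mem_sp (e_mem b l) hx
    rwa [h.high.eq_bot_of_ne _ fun m hm => ?_, Submodule.mem_bot] at this
    have h1 : low b ρ (m + Pi.single l 1) = low b ρ n := by
      rw [low_add, ← hm, low_single]; abel
    have := congrFun (low_injective b ρ h1) l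
    simp [e] at this
  have dj1 : ⁅b.e j, x₁⁆ = 0 := kill 0 j (by rwa [low_zero]) rfl
  have ei1 : ⁅b.e i, x₁⁆ = 0 := kill 0 i (by rwa [low_zero]) rfl
  have ei2 : ⁅b.e i, x₂⁆ = 0 := kill _ i hx₂ (by simp [hij])
  have dj3 : ⁅b.e j, x₃⁆ = 0 := by
    have := raise _ j hx₃ (Pi.single i 1) (add_comm _ _)
    by_contra h0
    exact hij (h.single_eq fun e => h0 (by simpa [e] using this))
  obtain ⟨a, ha⟩ := gen h.rho_ne_zero hx₁ hx₁0 _
    (by have := raise _ j hx₂ 0 (zero_add _).symm; rwa [low_zero] at this)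
  obtain ⟨c, hc⟩ := gen (low_ne_zero h) hx₂ hx₂0 _ (raise _ i hx₃ _ rfl)
  have ha0 : a ≠ 0 := by
    rintro rfl
    obtain ⟨l, n', hn', -, -, he⟩ := hst.exists_pred h (n := Pi.single j 1)
      (fun e => by simpa using congrFun e j) (hW₂ hx₂) hx₂ hx₂0
    have hl : l = j := by
      by_contra hl
      have := congrFun hn' l
      simp [hl] at this
    subst hl
    exact he (by rw [← ha, zero_smul])
  have hc0 : c ≠ 0 := by
    rintro rfl
    obtain ⟨l, n', hn', -, -, he⟩ := hst.exists_pred h (n := Pi.single j 1 + Pi.single i 1)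
      (fun e => by simpa using congrFun e j) (hW₃ hx₃) hx₃ hx₃0
    have hl : l = j ∨ l = i := by
      by_contra hl
      push Not at hl
      have := congrFun hn' l
      simp [hl.1, hl.2] at this
    rcases hl with rfl | rfl
    · exact he dj3
    · exact he (by rw [← hc, zero_smul])
  let op : ∀ l : ι, W →ₗ[K] W := fun l =>
    (LieAlgebra.ad K L (b.e l)).restrict (fun w hw => hst _ (e_mem_borel l) w hw)
  let v₁ : W := ⟨x₁, hW₁ hx₁⟩
  let v₂ : W := ⟨x₂, hW₂ hx₂⟩
  let v₃ : W := ⟨x₃, hW₃ hx₃⟩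
  obtain ⟨q1, q2, q12, q13, q23⟩ := double_line q v₁ v₂ v₃ ha0 hc0 (op j) (op i)
    (Subtype.ext dj1) (Subtype.ext ha.symm) (Subtype.ext dj3)
    (Subtype.ext ei1) (Subtype.ext ei2) (Subtype.ext hc.symm)
    (hq _ (e_mem_borel j)) (hq _ (e_mem_borel i))
  have hspan : ∀ w : W, ∃ s t u : K, w = s • v₁ + t • v₂ + u • v₃ := by
    rintro ⟨w, hw⟩
    rw [hWeq] at hw
    obtain ⟨w12, h12, w3, h3, rfl⟩ := Submodule.mem_sup.mp hw
    obtain ⟨w1, h1, w2, h2, rfl⟩ := Submodule.mem_sup.mp h12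
    obtain ⟨s, rfl⟩ := gen h.rho_ne_zero hx₁ hx₁0 _ h1
    obtain ⟨t, rfl⟩ := gen (low_ne_zero h) hx₂ hx₂0 _ h2
    obtain ⟨u, rfl⟩ := gen hν hx₃ hx₃0 _ h3
    exact ⟨s, t, u, rfl⟩
  have hv3 : v₃ ∉ Submodule.span K {v₁, v₂} := by
    intro hmem
    obtain ⟨s, t, e⟩ := Submodule.mem_span_pair.mp hmem
    have e' : s • x₁ + t • x₂ = x₃ := congrArg Subtype.val e
    have hd := disjoint_sp (b := b) (ρ := ρ) (n := Pi.single j 1 + Pi.single i 1)
      (t := {0, Pi.single j 1}) (by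
        rintro (e | e)
        · simpa using congrFun e j
        · simpa using congrFun (Set.mem_singleton_iff.mp e) i)
    rw [iSup_insert, iSup_singleton, low_zero] at hd
    exact hx₃0 (Submodule.disjoint_def.mp hd x₃ hx₃
      (e' ▸ Submodule.add_mem_sup (Submodule.smul_mem _ s hx₁) (Submodule.smul_mem _ t hx₂)))
  obtain ⟨ℓ, hℓ3, hℓ⟩ := Submodule.exists_dual_map_eq_bot_of_notMem hv3 inferInstance
  have hℓ' : ∀ v ∈ ({v₁, v₂} : Set W), ℓ v = 0 := fun v hv => by
    have : ℓ v ∈ (Submodule.span K {v₁, v₂}).map ℓ := Submodule.mem_map_of_mem (Submodule.subset_span hv)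
    rwa [hℓ, Submodule.mem_bot] at this
  refine ⟨ℓ, q v₃ / ℓ v₃ ^ 2, fun w => ?_⟩
  obtain ⟨s, t, u, rfl⟩ := hspan w
  rw [QuadraticMap.map_add q, QuadraticMap.map_add q]
  simp only [QuadraticMap.map_smul, smul_eq_mul, QuadraticMap.polar_add_left,
    QuadraticMap.polar_smul_left, QuadraticMap.polar_smul_right, q1, q2, q12, q13, q23,
    map_add, map_smul, hℓ' v₁ (by simp), hℓ' v₂ (by simp)]
  field_simp
  ring

end Groth.Agent.L13.AdjVar
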